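import Groth.Agent.AgPol.K438.Level
import Groth.Agent.S7635
import Groth.Agent.S9816
import Groth.Agent.S1522
import Groth.Agent.S1530
import Groth.Agent.S7916
import Groth.Agent.CurvSt.K310.DoubleCoverExists
import Groth.Agent.Pi1.H536.CurveFam

/-!
# Abelian varieties with ample invertible modules with a given number of sections
-/

set_option autoImplicit false
universe u
open CategoryTheory CategoryTheory.Limits AlgebraicGeometry MonoidalCategory CartesianMonoidalCategory
  MonObj

namespace K438.NE

/-- The number of sections. -/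
noncomputable def h0 {k : Type u} [Field k] (A : Over (Spec (CommRingCat.of k))) (L : A.left.Modules) : ℕ :=
  letI : A.left.Over (Spec (CommRingCat.of k)) := ⟨A.hom⟩
  Module.finrank k (Coh.HH A.left L 0)

/-- There is an abelian variety of dimension `g` with an ample invertible module with `d` sections. -/
def Good (k : Type u) [Field k] (g d : ℕ) : Prop :=
  ∃ (A : Over (Spec (CommRingCat.of k))) (_ : GrpObj A) (_ : IsCommMonObj A) (L : A.left.Modules),
    AgPol.IsAbSch A g ∧ CohB1.IsAmple L ∧ h0 A L = d

section

variable {k : Type u} [Field k]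

theorem isAbSch_of_dim {A : Over (Spec (CommRingCat.of k))} {g : ℕ} (h1 : Smooth A.hom) (h2 : IsProper A.hom)
    (h3 : GeometricallyConnected A.hom) (h4 : topologicalKrullDim A.left = g) : AgPol.IsAbSch A g := by
  refine ⟨h1, h2, h3, fun s => ?_⟩
  have := K639.Dim.dim_pullback_field A.hom (𝟙 (Spec (CommRingCat.of k)))
  rw [← Subsingleton.elim ((𝟙 (Spec (CommRingCat.of k)) : _ ⟶ _) (IsLocalRing.closedPoint k)) s, ← this, ← h4]
  exact ((asIso (pullback.fst A.hom (𝟙 _))).hom.homeomorph.isHomeomorph.topologicalKrullDim_eq)

theorem smoothOfRel {A : Over (Spec (CommRingCat.of k))} {g : ℕ} (hA : AgPol.IsAbSch A g) :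
    SmoothOfRelativeDimension g A.hom := by
  have := hA.smooth
  have := hA.geomConnected
  have : ConnectedSpace A.left := GeometricallyConnected.connectedSpace_of_subsingleton A.hom
  exact Groth.Agent.Pi1.H536.CurveFam.smoothOfRelativeDimension_of_dim k A.hom g (K438.Level.krullDim_left hA)

theorem isAbSch_tensor {A B : Over (Spec (CommRingCat.of k))} {g h : ℕ} (hA : AgPol.IsAbSch A g)
    (hB : AgPol.IsAbSch B h) : AgPol.IsAbSch (A ⊗ B) (h + g) := by
  have := hA.smooth
  have := hA.proper
  have := hA.geomConnected
  have := hB.smooth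
  have := hB.proper
  have := hB.geomConnected
  have s1 := smoothOfRel hA
  have s2 := smoothOfRel hB
  have e : (A ⊗ B).hom = pullback.fst A.hom B.hom ≫ A.hom := rfl
  have c1 : GeometricallyConnected (A ⊗ B).hom := by
    rw [e]
    exact GeometricallyConnected.comp _ _
  have c4 : MorphismProperty.IsStableUnderBaseChange (@SmoothOfRelativeDimension.{u} h) :=
    smoothOfRelativeDimension_isStableUnderBaseChange h
  have c3 : SmoothOfRelativeDimension h (pullback.fst A.hom B.hom) :=
    MorphismProperty.pullback_fst (P := @SmoothOfRelativeDimension h) _ _ s2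
  have c2 : SmoothOfRelativeDimension (h + g) (A ⊗ B).hom := by
    rw [e]
    infer_instance
  refine isAbSch_of_dim ?_ ?_ c1 ?_
  · rw [e]; infer_instance
  · rw [e]; infer_instance
  · have : ConnectedSpace (A ⊗ B).left := GeometricallyConnected.connectedSpace_of_subsingleton (A ⊗ B).hom
    exact Groth.Agent.Pi1.H536.CurveFam.topologicalKrullDim_eq k (A ⊗ B).hom (h + g)

end

end K438.NE
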