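import Groth.Agent.AgPol.K438.Prod
import Groth.Agent.JacVar.K532.CurvePts
import Groth.Agent.Fdesc.GeomAlgClosed
import Groth.Agent.Ega2.QCohLocal

/-!
# Elliptic curves and their powers, with ample invertible modules with a given number of sections
-/

set_option autoImplicit false
universe u
open CategoryTheory CategoryTheory.Limits AlgebraicGeometry MonoidalCategory CartesianMonoidalCategory
  MonObj

namespace K438.NE

open Groth.Agent Groth.Agent.Grpsch.PicGrp K532.CurvePic K532.CurvePts

theorem good_one (k : Type u) [Field k] [IsAlgClosed k] (d : ℕ) (hd : 1 ≤ d) : Good k 1 d := by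
  obtain ⟨X, f, hX, hg⟩ := K310.DoubleCoverExists.exists_curve k 1
  letI : X.Over (Spec (CommRingCat.of k)) := ⟨f⟩
  have hC : IsCurve k X := isCurve_of_isAlgClosed k X hX
  have hp : IsProper f := hX.1
  have hp' : IsProper (X ↘ Spec (CommRingCat.of k)) := hX.1
  have hs : Smooth f := hX.2.1
  have hi : IsIntegral X := hX.2.2.1
  have hdim : topologicalKrullDim X = 1 := hX.2.2.2
  obtain ⟨x, -⟩ := exists_kpt hC (⊤ : X.Opens) ⟨hi.nonempty.some, trivial⟩
  have gi : GeometricallyIrreducible f := Fdesc.GeomAlgClosed.geometricallyIrreducible_of_irreducibleSpace f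
  have gc : GeometricallyConnected f := Fdesc.GeomAlgClosed.geometricallyConnected_of_geometricallyIrreducible f
  have i1 : Smooth (Over.mk f).hom := hs
  have i2 : IsProper (Over.mk f).hom := hp
  have i3 : GeometricallyIrreducible (Over.mk f).hom := gi
  have hg1 : Module.finrank k (Coh.HH X (Coh.structureModule X) 1) = 1 := hg
  obtain ⟨G, -, hG2⟩ := S7916.result k (Over.mk f) hdim hg1 (Over.homMk x.1 x.2)
  obtain ⟨L, hL, hcl⟩ := exists_mk ((pcl hC x)⁻¹ ^ d)
  have hdeg : deg k X (mk L hL) = d := by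
    rw [← hcl, deg_pow hC, deg_inv hC, deg_pcl]
    ring
  have hgen : gen k X = 1 := hg
  have h1 : h k X 1 (mk L hL) = 0 := by
    rw [serre hC]
    apply h0_eq_zero_of_deg_neg hC
    rw [deg_mul hC, deg_om, deg_inv hC, hdeg, hgen]
    omega
  have h0' : h k X 0 (mk L hL) = d := by
    have := rr hC (mk L hL)
    rw [hdeg, h1, hgen] at this
    omega
  refine ⟨Over.mk f, G, hG2, L, isAbSch_of_dim hs hp gc hdim, (S1530.result k X hdim L hL).2 ?_, h0'⟩
  rw [← deg_mk k X hdim hL, hdeg]
  omega

section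

variable {k : Type u} [Field k]

open TensorProduct in
theorem finrank_of_equiv {V W : ℕ → Type u} [∀ n, AddCommGroup (V n)] [∀ n, Module k (V n)]
    [∀ n, AddCommGroup (W n)] [∀ n, Module k (W n)] {T : Type u} [AddCommGroup T] [Module k T]
    (e : (Π p : Fin (0 + 1), V (p : ℕ) ⊗[k] W (0 - (p : ℕ))) ≃ₗ[k] T) :
    Module.finrank k T = Module.finrank k (V 0) * Module.finrank k (W 0) := by
  have e' : (Π p : Fin 1, V (p : ℕ) ⊗[k] W (0 - (p : ℕ))) ≃ₗ[k] T := e
  have h3 := ((LinearEquiv.piUnique k (fun p : Fin 1 => V (p : ℕ) ⊗[k] W (0 - (p : ℕ)))).symm.trans e').finrank_eq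
  rw [← h3]
  exact Module.finrank_tensorProduct

theorem good_succ {g g' d d' : ℕ} (h1 : Good k g d) (h2 : Good k g' d') : Good k (g' + g) (d * d') := by
  obtain ⟨A, G, c, L, hA, hL, hd⟩ := h1
  obtain ⟨B, G', c', M, hB, hM, hd'⟩ := h2
  refine ⟨A ⊗ B, inferInstance, inferInstance, CohB1.tensorMod ((Scheme.Modules.pullback (fst A B).left).obj L)
    ((Scheme.Modules.pullback (snd A B).left).obj M), isAbSch_tensor hA hB, ?_, ?_⟩
  · exact S9816.result A.hom B.hom L M hL hM
  · have := hA.proper
    have := hB.proper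
    letI : A.left.Over (Spec (CommRingCat.of k)) := ⟨A.hom⟩
    letI : B.left.Over (Spec (CommRingCat.of k)) := ⟨B.hom⟩
    have : IsProper (A.left ↘ Spec (CommRingCat.of k)) := hA.proper
    have : IsProper (B.left ↘ Spec (CommRingCat.of k)) := hB.proper
    have : CompactSpace A.left := QuasiCompact.compactSpace_of_compactSpace A.hom
    have : CompactSpace B.left := QuasiCompact.compactSpace_of_compactSpace B.hom
    obtain ⟨e⟩ := S7635.result k A.left B.left L (Ega2.QCohLocal.isQCoh_of_isInvertible hL.1) M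
      (Ega2.QCohLocal.isQCoh_of_isInvertible hM.1) 0
    letI : (pullback (A.left ↘ Spec (CommRingCat.of k)) (B.left ↘ Spec (CommRingCat.of k))).Over
        (Spec (CommRingCat.of k)) :=
      ⟨pullback.fst (A.left ↘ Spec (CommRingCat.of k)) (B.left ↘ Spec (CommRingCat.of k)) ≫
        (A.left ↘ Spec (CommRingCat.of k))⟩
    have h3 := finrank_of_equiv (V := Coh.HH A.left L) (W := Coh.HH B.left M) e
    rw [← hd, ← hd']
    exact h3

end

theorem good (k : Type u) [Field k] [IsAlgClosed k] (g d : ℕ) (hg : 1 ≤ g) (hd : 1 ≤ d) : Good k g d := by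
  obtain ⟨m, rfl⟩ := Nat.exists_eq_add_of_le' hg
  induction m with
  | zero => simpa using good_one k d hd
  | succ m ih =>
    have := good_succ (good_one k 1 le_rfl) (ih (by omega))
    simpa using this

end K438.NE
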