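import Groth.Agent.AgPol.K438.Prod
import Groth.Agent.Sga67.LocBasis
import Groth.Agent.VarietyA.CurveLin

/-!
# The direct image to the spectrum of a field
-/

set_option autoImplicit false
universe u
open CategoryTheory CategoryTheory.Limits AlgebraicGeometry MonoidalCategory CartesianMonoidalCategory
  MonObj

namespace K438.NE

open Groth.Agent Groth.Agent.Sga67.Sec Groth.Agent.Sga67.LocBasis Groth.Agent.VarietyA.CurveLin

section

variable {k : Type u} [Field k]

theorem eq_bot_or_top (V : (Spec (CommRingCat.of k)).Opens) : V = ⊥ ∨ V = ⊤ := by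
  by_cases h : IsLocalRing.closedPoint k ∈ V
  · right
    refine TopologicalSpace.Opens.ext (Set.eq_univ_of_forall fun x => ?_)
    rwa [Subsingleton.elim (α := PrimeSpectrum k) x (IsLocalRing.closedPoint k)]
  · left
    refine TopologicalSpace.Opens.ext (Set.eq_empty_of_forall_notMem fun x hx => h ?_)
    rwa [← Subsingleton.elim (α := PrimeSpectrum k) x (IsLocalRing.closedPoint k)]

theorem smul_secOf (A : Over (Spec (CommRingCat.of k))) (L : A.left.Modules) (c : k) :
    letI : A.left.Over (Spec (CommRingCat.of k)) := ⟨A.hom⟩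
    ∀ w : Coh.HH A.left L 0, (show Sec ((Coh.push A.hom).obj L) ⊤ from secOf L (c • w)) =
      (show Γ(Spec (CommRingCat.of k), ⊤) from (Scheme.ΓSpecIso (CommRingCat.of k)).inv c) •
        (show Sec ((Coh.push A.hom).obj L) ⊤ from secOf L w) := by
  intro w
  letI : A.left.Over (Spec (CommRingCat.of k)) := ⟨A.hom⟩
  exact secOf_smul L (Coh.toGlobal (A.left ↘ Spec (CommRingCat.of k)) c) w

theorem isFinLocFreeOfRank_push (A : Over (Spec (CommRingCat.of k))) (L : A.left.Modules) (d : ℕ)
    (hd : h0 A L = d)
    (hfin : letI : A.left.Over (Spec (CommRingCat.of k)) := ⟨A.hom⟩; Module.Finite k (Coh.HH A.left L 0)) :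
    FlatMod.IsFinLocFreeOfRank d ((Coh.push A.hom).obj L) := by
  letI : A.left.Over (Spec (CommRingCat.of k)) := ⟨A.hom⟩
  have : Module.Finite k (Coh.HH A.left L 0) := hfin
  let b : Module.Basis (Fin d) k (Coh.HH A.left L 0) := Module.finBasisOfFinrankEq k _ hd
  let s : Fin d → Sec ((Coh.push A.hom).obj L) ⊤ := fun i => secOf L (b i)
  have hs : IsLocBasis s := by
    intro V hV
    rcases eq_bot_or_top V with rfl | rfl
    · have h1 : Subsingleton (Sec ((Coh.push A.hom).obj L) ⊥) :=
        ⟨fun s t => Fdesc.LocGen.res_ext ((Coh.push A.hom).obj L)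
          (fun _ : Empty => (⊥ : (Spec (CommRingCat.of k)).Opens)) (fun i => i.elim) bot_le (fun i => i.elim)⟩
      exact ⟨fun _ _ _ => Subsingleton.elim _ _, fun y => ⟨0, Subsingleton.elim _ _⟩⟩
    · let φ : k ≃+* Γ(Spec (CommRingCat.of k), ⊤) :=
        (Scheme.ΓSpecIso (CommRingCat.of k)).symm.commRingCatIsoToRingEquiv
      have h1 : ∀ c : Fin d → k, comb s hV (fun i => φ (c i)) = secOf L (b.equivFun.symm c) := by
        intro c
        rw [comb_apply, Module.Basis.equivFun_symm_apply, map_sum]
        refine Finset.sum_congr rfl fun i _ => ?_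
        rw [res_self]
        exact (smul_secOf A L (c i) (b i)).symm
      have h2 : Function.Bijective (fun c : Fin d → k => comb s hV (fun i => φ (c i))) := by
        rw [show (fun c : Fin d → k => comb s hV (fun i => φ (c i))) =
          fun c => secOf L (b.equivFun.symm c) from funext h1]
        exact (secOf L).bijective.comp b.equivFun.symm.bijective
      have h3 : Function.Bijective (fun (c : Fin d → k) (i : Fin d) => φ (c i)) :=
        (Equiv.piCongrRight (fun _ : Fin d => φ.toEquiv)).bijective
      exact (Function.Bijective.of_comp_iff _ h3).1 h2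
  intro x
  exact ⟨⊤, trivial, nonempty_restrict_iso_iff.2 ⟨s, hs⟩⟩

end

end K438.NE
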