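import Groth.Prelude.Def_AgMod
import Groth.Agent.AgPol.K438.Ell
import Groth.Agent.AgPol.K438.PushRank
import Groth.Agent.AgPol.K438.LambdaBC
import Groth.Agent.RelProj.K823.QProj

/-!
# Non-emptiness of the moduli problem of polarised abelian schemes over algebraically closed fields
-/

set_option autoImplicit false
universe u
open CategoryTheory CategoryTheory.Limits AlgebraicGeometry MonoidalCategory CartesianMonoidalCategory
  MonObj

namespace K438.NE

open Groth.Agent Groth.Agent.Grpsch.PicGrp Groth.Agent.Fdesc.LocGen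

/-- Existence of the dual of an abelian variety over an algebraically closed field. -/
def ExDual : Prop := ∀ (Ω : Type u) [Field Ω] [IsAlgClosed Ω] (A : Over (Spec (CommRingCat.of Ω))) [GrpObj A]
  [IsCommMonObj A] (g : ℕ), AgPol.IsAbSch A g → ∀ (L : A.left.Modules), CohB1.IsAmple L →
    ∃ (At : Over (Spec (CommRingCat.of Ω))) (_ : GrpObj At) (_ : IsCommMonObj At) (φ : AgPol.DualMap A At),
      AbDual.IsDualAV Scheme.fppfPrecoverage A At φ

/-- The degree of the homomorphism attached to an ample invertible module, over an algebraically closed field. -/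
def DegSq : Prop := ∀ (Ω : Type u) [Field Ω] [IsAlgClosed Ω] (A At : Over (Spec (CommRingCat.of Ω))) [GrpObj A]
  [IsCommMonObj A] [GrpObj At] [IsCommMonObj At] (g : ℕ) (_ : AgPol.IsAbSch A g)
  (_ : RelProj.IsProjective A.hom) (φ : AgPol.DualMap A At)
  (_ : AbDual.IsDualAV Scheme.fppfPrecoverage A At φ)
  (L : A.left.Modules) (_ : PicF.IsInvertible L) (_ : RelAmple.IsRelAmple A.hom L)
  (lam : A ⟶ At) (_ : AgPol.IsLambda A At φ L lam) (r : ℕ)
  (_ : FlatMod.IsFinLocFreeOfRank r ((Coh.push A.hom).obj L)), AgPol.HasDegSq lam r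

/-- The family is attached to a relatively ample module. -/
def IsAmpleFam {Z : Scheme.{u}} {T : Over Z} {g : ℕ} (F : AgPol.Fam T g) : Prop :=
  letI := F.grp
  letI := F.grpt
  ∃ L : F.X.left.Modules, PicF.IsInvertible L ∧ RelAmple.IsRelAmple F.X.hom L ∧
    AgPol.IsLambda F.X F.Xt F.φ L F.lam

theorem exists_fam (HD : ExDual.{u}) (HS : DegSq.{u}) {Z : Scheme.{u}} (g d n : ℕ) (hg : 1 ≤ g) (hd : 1 ≤ d)
    (Ω : Type u) [Field Ω] [IsAlgClosed Ω] (t : Spec (CommRingCat.of Ω) ⟶ Z) (hn : (n : Ω) ≠ 0) :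
    ∃ F : AgPol.Fam (Over.mk t) g, AgPol.Fam.ok g d n (Over.mk t) F ∧ IsAmpleFam F := by
  obtain ⟨A, G, cA, L, hA, hL, h0⟩ := good Ω g d hg hd
  obtain ⟨At, Gt, cAt, φ, hdual⟩ := HD Ω A g hA L hL
  have i1 := hA.smooth
  have i2 := hA.proper
  have i3 := hA.geomConnected
  have hgi := K814.AbBasic.geometricallyIntegral A
  have hrel : RelAmple.IsRelAmple A.hom L := Ega2.RelAmp.isRelAmple_iff_isAmple.2 hL
  have hc : pull (η[A] : 𝟙_ (Over (Spec (CommRingCat.of Ω))) ⟶ A).left (mk L hL.1) = 1 :=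
    pic_spec_local Ω _
  obtain ⟨σ, hσ⟩ := K438.Level.exists_levelStr A hA hn
  have hlam : AgPol.IsLambda A At φ L (K814.MumHom.hom φ (mk L hL.1)) :=
    (K814.MumHom.isLambda_iff φ hL.1 _).2 rfl
  have hproj : RelProj.IsProjective A.hom :=
    K823.QProj.isProjective A.hom ⟨inferInstance, inferInstance, L, hrel⟩
  letI : A.left.Over (Spec (CommRingCat.of Ω)) := ⟨A.hom⟩
  have hfin : Module.Finite Ω (Coh.HH A.left L 0) :=
    Module.finite_of_finrank_pos (lt_of_lt_of_eq (Nat.lt_of_lt_of_le Nat.zero_lt_one hd) h0.symm)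
  have hdeg := HS Ω A At g hA hproj φ hdual L hL.1 hrel _ hlam d (isFinLocFreeOfRank_push A L d h0 hfin)
  exact ⟨⟨A, G, At, Gt, φ, K814.MumHom.hom φ (mk L hL.1), σ⟩,
    ⟨hA, cA, cAt, hdual, K438.LambdaBC.isPolarization hdual hL.1 hrel hlam (K814.MumHom.isMonHom_hom hdual hc),
      hdeg, hσ⟩, L, hL.1, hrel, hlam⟩

/-- The fppf-local form of the polarisation condition. -/
theorem fppf_of_isAmpleFam {Z : Scheme.{u}} {T : Over Z} {g d n : ℕ} (F : AgPol.Fam T g)
    (hok : AgPol.Fam.ok g d n T F) (hF : IsAmpleFam F) :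
    letI := F.grp
    letI := F.grpt
    ∃ (T' : Scheme.{u}) (k : T' ⟶ T.left), Surjective k ∧ Flat k ∧ LocallyOfFinitePresentation k ∧
      ∃ L : (Red.bc k F.X).left.Modules, PicF.IsInvertible L ∧ RelAmple.IsRelAmple (Red.bc k F.X).hom L ∧
        AgPol.IsLambda (Red.bc k F.X) (Red.bc k F.Xt) (AgPol.bcDual k F.X F.Xt F.φ) L
          ((Over.pullback k).map F.lam) := by
  letI := F.grp
  letI := F.grpt
  obtain ⟨hA, -, -, hdual, -, -, -⟩ := hok
  obtain ⟨L, hL, hrel, hlam⟩ := hF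
  have i1 := hA.smooth
  have i2 := hA.proper
  have i3 := hA.geomConnected
  exact ⟨T.left, 𝟙 _, inferInstance, inferInstance, inferInstance, _, isInvertible_pullback _ hL,
    Ega2.RelAmp.relAmple_baseChange F.X.hom (𝟙 _) L hrel, K438.LambdaBC.isLambda_bc hdual hL hlam (𝟙 _)⟩

end K438.NE
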