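import Groth.Prelude.Def_AgPol
import Groth.Agent.AbVar.K513.Tors
import Groth.Agent.AbVar.K521.BcTate
import Groth.Agent.AlgSp.K639.Dim

/-!
# Existence of level structures over algebraically closed fields
-/

set_option autoImplicit false
universe u
open CategoryTheory CategoryTheory.Limits AlgebraicGeometry MonoidalCategory CartesianMonoidalCategory
  MonObj

namespace K438.Level

/-- The fibres of an abelian scheme at field valued points. -/
theorem krullDim_bc {S : Scheme.{u}} {A : Over S} {g : ℕ}
    (hA : AgPol.IsAbSch A g) {Ω : Type u} [Field Ω] (t : Spec (CommRingCat.of Ω) ⟶ S) :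
    topologicalKrullDim (Red.bc t A).left = g := by
  have := hA.smooth
  exact (K639.Dim.dim_pullback_field A.hom t).trans (hA.fibreDim _)

theorem krullDim_left {k : Type u} [Field k] {A : Over (Spec (CommRingCat.of k))} {g : ℕ}
    (hA : AgPol.IsAbSch A g) : topologicalKrullDim A.left = g := by
  rw [← krullDim_bc hA (𝟙 _)]
  exact ((asIso (pullback.fst A.hom (𝟙 _))).hom.homeomorph.isHomeomorph.topologicalKrullDim_eq).symm

theorem isAbSch_bc {S S' : Scheme.{u}} {A : Over S} {g : ℕ}
    (hA : AgPol.IsAbSch A g) (t : S' ⟶ S) : AgPol.IsAbSch (Red.bc t A) g := by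
  have := hA.smooth
  have := hA.proper
  have := hA.geomConnected
  refine ⟨inferInstanceAs (Smooth (pullback.snd A.hom t)), inferInstanceAs (IsProper (pullback.snd A.hom t)),
    inferInstanceAs (GeometricallyConnected (pullback.snd A.hom t)), fun s => ?_⟩
  have h := krullDim_bc hA (S'.fromSpecResidueField s ≫ t)
  rw [← h]
  exact (pullbackLeftPullbackSndIso A.hom t (S'.fromSpecResidueField s)).hom.homeomorph.isHomeomorph.topologicalKrullDim_eq

section

variable {k : Type u} [Field k] {Ω : Type u} [Field Ω] (t : Spec (CommRingCat.of Ω) ⟶ Spec (CommRingCat.of k))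

/-- The point `Spec Ω ⟶ Spec k`, an epimorphism. -/
theorem epi_toUnit : Epi (toUnit (Over.mk t)) := by
  have h : Epi t := by
    have : Surjective t := ⟨fun x => ⟨IsLocalRing.closedPoint Ω, Subsingleton.elim _ _⟩⟩
    have : Flat t := inferInstance
    infer_instance
  have : Epi (toUnit (Over.mk t)).left := by
    have e : (toUnit (Over.mk t)).left = t := by
      have := Over.w (toUnit (Over.mk t))
      simp
    rw [e]
    exact h
  exact (Over.forget _).epi_of_epi_map this

/-- `x ↦ x` regarded at `Ω`-points. -/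
noncomputable def ext (A : Over (Spec (CommRingCat.of k))) [GrpObj A] :
    (𝟙_ (Over (Spec (CommRingCat.of k))) ⟶ A) →* (Over.mk t ⟶ A) where
  toFun x := toUnit (Over.mk t) ≫ x
  map_one' := by
    rw [MonObj.comp_one]
  map_mul' x y := MonObj.comp_mul _ _ _

theorem ext_injective (A : Over (Spec (CommRingCat.of k))) [GrpObj A] : Function.Injective (ext t A) := by
  intro x y h
  have := epi_toUnit t
  exact (cancel_epi (toUnit (Over.mk t))).1 h

variable [IsAlgClosed Ω]

theorem card_torsSet (A : Over (Spec (CommRingCat.of k))) [GrpObj A] [IsCommMonObj A] {g : ℕ} (hA : AgPol.IsAbSch A g)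
    {n : ℕ} (hn : (n : k) ≠ 0) : Nat.card (AgPol.torsSet A n (Over.mk t)) = n ^ (2 * g) := by
  have hB := isAbSch_bc hA t
  have := hB.smooth
  have := hB.proper
  have := hB.geomConnected
  have hc : IsCommMonObj (Red.bc t A) := inferInstanceAs (IsCommMonObj ((Over.pullback t).obj A))
  have hgi := K513.Tors.geometricallyIntegral (Red.bc t A)
  have hnΩ : (n : Ω) ≠ 0 := by
    have : ∀ φ : k →+* Ω, (n : Ω) ≠ 0 := fun φ h => hn (φ.injective (by rw [map_natCast, h, map_zero]))
    exact this (Spec.preimage t).hom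
  have h1 := K513.Tors.card_torsPts (Red.bc t A) g (krullDim_bc hA t) n hnΩ
  rw [← h1]
  let e := K521.BcTate.ptsEquiv t A
  refine Nat.card_congr (Equiv.subtypeEquiv e.toEquiv fun x => ?_)
  change x ^ n = 1 ↔ (e x) ^ n = 1
  rw [← map_pow, map_eq_one_iff _ e.injective]

/-- Level structures exist over algebraically closed fields. -/
theorem exists_levelStr [IsAlgClosed k] (A : Over (Spec (CommRingCat.of k))) [GrpObj A] [IsCommMonObj A] {g : ℕ}
    (hA : AgPol.IsAbSch A g) {n : ℕ} (hn : (n : k) ≠ 0) :
    ∃ σ : Fin (2 * g) → (𝟙_ (Over (Spec (CommRingCat.of k))) ⟶ A), AgPol.IsLevelStr A g n σ := by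
  have := hA.smooth
  have := hA.proper
  have := hA.geomConnected
  have hgi := K513.Tors.geometricallyIntegral A
  have hn0 : 0 < n := Nat.pos_of_ne_zero fun h => hn (by rw [h, Nat.cast_zero])
  obtain ⟨e⟩ := K513.Tors.nonempty_mulEquiv A g (krullDim_left hA) n hn0 hn
  let σ : Fin (2 * g) → (𝟙_ (Over (Spec (CommRingCat.of k))) ⟶ A) :=
    fun i => (e.symm (Multiplicative.ofAdd (Pi.single i 1))).1
  have hσ : ∀ i, σ i ^ n = 1 := fun i => (e.symm (Multiplicative.ofAdd (Pi.single i 1))).2
  have hgen : Subgroup.closure (Set.range σ) = AbDual.torsPts A n (𝟙_ _) := by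
    apply le_antisymm
    · rw [Subgroup.closure_le]
      rintro _ ⟨i, rfl⟩
      exact hσ i
    · intro x hx
      have hx' : ∀ v : Fin (2 * g) → ZMod n, (e.symm (Multiplicative.ofAdd v)).1 ∈ Subgroup.closure (Set.range σ) := by
        intro v
        have h1 : v = ∑ i, (v i).val • (Pi.single i (1 : ZMod n) : Fin (2 * g) → ZMod n) := by
          have : NeZero n := ⟨hn0.ne'⟩
          ext j
          rw [Finset.sum_apply, Finset.sum_eq_single j]
          · simp
          · intro b _ hb
            simp [hb.symm]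
          · simp
        rw [h1, ofAdd_sum, map_prod, SubmonoidClass.coe_finsetProd]
        refine Subgroup.prod_mem _ fun i _ => ?_
        rw [ofAdd_nsmul, map_pow, SubmonoidClass.coe_pow]
        exact Subgroup.pow_mem _ (Subgroup.subset_closure (Set.mem_range_self i)) _
      have := hx' (Multiplicative.toAdd (e ⟨x, hx⟩))
      rwa [ofAdd_toAdd, e.symm_apply_apply] at this
  refine ⟨σ, hσ, fun Ω _ _ t => ⟨?_, card_torsSet t A hA hn⟩⟩
  have h2 : (Set.range fun i => toUnit (Over.mk t) ≫ σ i) = ext t A '' Set.range σ := by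
    rw [← Set.range_comp]
    rfl
  have h3 : (ext t A '' (AbDual.torsPts A n (𝟙_ _) : Set _)) ⊆ AgPol.torsSet A n (Over.mk t) := by
    rintro _ ⟨x, hx, rfl⟩
    change (ext t A x) ^ n = 1
    rw [← map_pow, (AbDual.mem_torsPts A _).1 hx, map_one]
  rw [h2, ← MonoidHom.map_closure, hgen, Subgroup.coe_map]
  have hfin : Finite (AgPol.torsSet A n (Over.mk t)) := by
    apply Nat.finite_of_card_ne_zero
    rw [card_torsSet t A hA hn]
    exact (pow_pos hn0 _).ne'
  apply Set.eq_of_subset_of_ncard_le h3
  rw [Set.ncard_image_of_injective _ (ext_injective t A)]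
  have h4 := card_torsSet t A hA hn
  have h5 := K513.Tors.card_torsPts A g (krullDim_left hA) n hn
  rw [← Nat.card_coe_set_eq, ← Nat.card_coe_set_eq]
  rw [h4]
  exact h5.ge

end

end K438.Level
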