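import Groth.Agent.AgPol.K438.FamEx
import Groth.Agent.AgPol.K814.DualNode
import Groth.Agent.S14161
import Groth.Agent.AgPol.K117.Nodes

/-!
# Non-emptiness of the moduli problem of polarised abelian schemes
-/

set_option autoImplicit false
universe u
open CategoryTheory CategoryTheory.Limits AlgebraicGeometry MonoidalCategory CartesianMonoidalCategory
  MonObj

namespace K438.NE

theorem exDual : ExDual.{u} := by
  intro Ω _ _ A _ _ g hA L hL
  obtain ⟨At, Gt, cAt, φ, -, -, hdual, -⟩ :=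
    K814.DualNode.exists_dual hA hL.1 (Groth.Agent.Ega2.RelAmp.isRelAmple_iff_isAmple.2 hL)
  exact ⟨At, Gt, cAt, φ, hdual⟩

theorem degSq : DegSq.{u} := by
  intro Ω _ _ A At _ _ _ _ g hA hproj φ hdual L hL hrel lam hlam r hr
  exact Groth.Agent.S14161.result _ A At g hA hproj φ hdual L hL hrel lam hlam r hr

/-- **NE**. -/
theorem nonEmpty (g d n : ℕ) (hg : 1 ≤ g) (hd : 1 ≤ d) : K117.Ag.Node.NonEmpty.{u} g d n := by
  intro Ω _ _ t hn
  obtain ⟨F, hF, -⟩ := exists_fam exDual degSq g d n hg hd Ω t hn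
  exact ⟨F, hF⟩

end K438.NE
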