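import Groth.Agent.AgPol.K245.NodeMum
import Groth.Agent.AgPol.K438.LambdaBC
import Groth.Agent.AgPol.K814.DualNode
import Mathlib.AlgebraicGeometry.Morphisms.FlatMono

/-!
# The principal polarisation of the Jacobian of a family of curves with a section
-/

set_option autoImplicit false
set_option linter.unusedSectionVars false
set_option linter.overlappingInstances false
universe u

open CategoryTheory CategoryTheory.Limits AlgebraicGeometry Opposite MonoidalCategory CartesianMonoidalCategory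
open scoped MonObj

namespace K438.JacPol

open Groth.Agent Groth.Agent.Grpsch.PicGrp Groth.Agent.Fga.RigGrp Groth.Agent.Fga.JacSum
  Groth.Agent.Sga7.H732.Hedge K732.PicZero K732.Dual K732.Prim K732.CubeSec K528.MumZero K814.MumHom
  K245.NodeMum K245.JacSec

section gen

variable {S C : Scheme.{u}} {f : C ⟶ S} {σ : S ⟶ C} {hσ : σ ≫ f = 𝟙 S} {J : Over S} [GrpObj J]
  {ξ : Pic (PicF.XT f J)}

/-- The universal class of the Jacobian has degree zero on fibres after any base change. -/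
theorem deg_pull [IsProper f] [Smooth f] [GeometricallyConnected f]
    (hdim : ∀ s : S, topologicalKrullDim ↥(f.fiber s) = 1) {T T' : Over S} (g : T' ⟶ T)
    {c : Pic (PicF.XT f T)} (hc : FGA.HasFibreDegreeZeroCl f T (toCl c)) :
    FGA.HasFibreDegreeZeroCl f T' (toCl (pull (PicF.XTmap f g) c)) := by
  rw [fibDeg_iff f hdim] at hc ⊢
  exact hc.pull _ _ (XTmap_XTproj f g)

theorem deg_of_mem_pz [IsProper f] [Smooth f] [GeometricallyConnected f]
    (hdim : ∀ s : S, topologicalKrullDim ↥(f.fiber s) = 1) {T : Over S} {c : Pic (PicF.XT f T)}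
    (hc : c ∈ pz f T) : FGA.HasFibreDegreeZeroCl f T (toCl c) := by
  rw [fibDeg_iff f hdim, ← K530.PicZero.isPicZeroCl_toCl_iff, isPicZeroCl_iff]
  exact hc

/-- Maps to the Jacobian are determined by their classes. -/
theorem jac_ext [IsProper f] [Smooth f] [GeometricallyConnected f]
    (hdim : ∀ s : S, topologicalKrullDim ↥(f.fiber s) = 1) (h : IsJac f σ hσ J ξ) {T : Over S} {a b : T ⟶ J}
    (hab : pull (PicF.XTmap f a) ξ = pull (PicF.XTmap f b) ξ) : a = b := by
  obtain ⟨_, _, hu⟩ := h.univ T (pull (PicF.XTmap f a) ξ) (pull_mem _ h.mem) (deg_pull hdim a h.deg)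
  exact (hu a rfl).trans (hu b hab.symm).symm

theorem pull_one (h : IsJac f σ hσ J ξ) (T : Over S) : pull (PicF.XTmap f (1 : T ⟶ J)) ξ = 1 := by
  have h1 := h.mul (1 : T ⟶ J) 1
  rw [_root_.mul_one] at h1
  exact mul_eq_left.mp h1.symm

theorem pull_inv (h : IsJac f σ hσ J ξ) {T : Over S} (a : T ⟶ J) :
    pull (PicF.XTmap f a⁻¹) ξ = (pull (PicF.XTmap f a) ξ)⁻¹ := by
  have h1 := h.mul a⁻¹ a
  rw [_root_.inv_mul_cancel, pull_one h] at h1
  exact eq_inv_of_mul_eq_one_left h1.symm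

variable [SmoothOfRelativeDimension 1 f] [IsSeparated f]

/-- The Abel map sends the base point to the unit. -/
theorem abel_base [IsProper f] [Smooth f] [GeometricallyConnected f]
    (hdim : ∀ s : S, topologicalKrullDim ↥(f.fiber s) = 1) (h : IsJac f σ hσ J ξ) {α : Over.mk f ⟶ J}
    (hα : IsAbelS f σ hσ ξ α) :
    (Over.homMk σ hσ : 𝟙_ (Over S) ⟶ Over.mk f) ≫ α = 1 := by
  apply jac_ext hdim h
  rw [pull_one h]
  have h1 := hα (𝟙_ (Over S)) (Pt.ofSection hσ (𝟙_ (Over S)))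
  have h2 : K245.NodeMum.ptHom (Pt.ofSection hσ (𝟙_ (Over S))) = (Over.homMk σ hσ : 𝟙_ (Over S) ⟶ Over.mk f) := by
    apply Over.OverMorphism.ext
    exact Category.id_comp σ
  rw [h2] at h1
  rw [h1, acl, _root_.inv_mul_cancel, map_one]

end gen

section bc

variable {S C : Scheme.{u}} {f : C ⟶ S} {J : Over S} (α : Over.mk f ⟶ J)

/-- `α × 1` -/
noncomputable def ba (T : Over S) : PicF.XT f T ⟶ PicF.XT J.hom T := AbDual.bcMap α T

theorem ba_fst (T : Over S) : ba α T ≫ pullback.fst J.hom T.hom = pullback.fst f T.hom ≫ α.left := bcMap_fst α T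

theorem ba_proj (T : Over S) : ba α T ≫ PicF.XTproj J.hom T = PicF.XTproj f T := bcMap_XTproj α T

theorem XTmap_ba {T T' : Over S} (g : T' ⟶ T) :
    PicF.XTmap f g ≫ ba α T = ba α T' ≫ PicF.XTmap J.hom g := by
  apply pullback.hom_ext
  · rw [Category.assoc, ba_fst, Category.assoc, XTmap_fst, XTmap_fst_assoc, ba_fst]
  · change (_ ≫ _) ≫ PicF.XTproj J.hom T = (_ ≫ _) ≫ PicF.XTproj J.hom T
    rw [Category.assoc, ba_proj, Category.assoc, XTmap_XTproj, XTmap_XTproj, ← Category.assoc, ba_proj]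

theorem toUnit_left (T : Over S) : (toUnit T).left = T.hom := by
  have := Over.w (toUnit T)
  exact (Category.comp_id _).symm.trans this

variable {α} [GrpObj J] {σ : S ⟶ C} {hσ : σ ≫ f = 𝟙 S}

theorem pull_ba_mem {At : Over S} {ζ : Pic (PicF.XT J.hom At)} (h2 : ζ ∈ rg J At)
    (hbase : (Over.homMk σ hσ : 𝟙_ (Over S) ⟶ Over.mk f) ≫ α = 1) :
    pull (ba α At) ζ ∈ Rg f σ hσ At := by
  rw [mem_Rg, ← pull_comp]
  have e : PicF.secT f σ hσ At ≫ ba α At = (lift (1 : At ⟶ J) (𝟙 At)).left := by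
    apply pullback.hom_ext
    · rw [Category.assoc, ba_fst]
      refine (Category.assoc _ _ _).symm.trans ?_
      refine (congrArg (fun z => z ≫ α.left) (pullback.lift_fst _ _ _)).trans ?_
      refine Eq.trans ?_ (congrArg (fun q => Over.Hom.left q) (lift_fst (1 : At ⟶ J) (𝟙 At))).symm
      have h4 : (1 : At ⟶ J) = toUnit At ≫ (Over.homMk σ hσ : 𝟙_ (Over S) ⟶ Over.mk f) ≫ α := by
        rw [hbase, MonObj.comp_one]
      rw [h4]
      change (At.hom ≫ σ) ≫ α.left = (toUnit At).left ≫ σ ≫ α.left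
      rw [toUnit_left, Category.assoc]
    · change (_ ≫ _) ≫ PicF.XTproj J.hom At = _
      rw [Category.assoc, ba_proj]
      refine (pullback.lift_snd _ _ _).trans ?_
      exact (congrArg (fun q => Over.Hom.left q) (lift_snd (1 : At ⟶ J) (𝟙 At))).symm
  rw [e]
  exact mem_rg_iff.1 h2

end bc

/-- **The principal polarisation of the Jacobian.** -/
theorem main {S C : Scheme.{u}} [IsLocallyNoetherian S] {f : C ⟶ S} {g : ℕ} (hf : ModFun.IsCurveOfGenus g f)
    [SmoothOfRelativeDimension 1 f] [IsProper f] {σ : S ⟶ C} {hσ : σ ≫ f = 𝟙 S} {J : Over S} [GrpObj J]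
    [IsCommMonObj J] {ξ : Pic (PicF.XT f J)} (hJ : AgPol.IsAbSch J g) (h : IsJac f σ hσ J ξ) {α : Over.mk f ⟶ J}
    (hα : IsAbelS f σ hσ ξ α) (L : J.left.Modules) (hL : PicF.IsInvertible L)
    (hrel : RelAmple.IsRelAmple J.hom L) (h1 : pull (η[J] : 𝟙_ (Over S) ⟶ J).left (mk L hL) = 1)
    (hm : pull (AbDual.bcMap α J) (K528.MumZero.mumCl J (mk L hL)) = ξ⁻¹) :
    ∃ (At : Over S) (_ : GrpObj At) (_ : IsCommMonObj At) (φ : AgPol.DualMap J At), AgPol.IsAbSch At g ∧
      AbDual.IsDualAV Scheme.fppfPrecoverage J At φ ∧ IsIso (K814.MumHom.hom φ (mk L hL)) ∧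
      AgPol.IsPolarization J At φ (K814.MumHom.hom φ (mk L hL)) ∧
      AgPol.HasDegSq (K814.MumHom.hom φ (mk L hL)) 1 := by
  have hsm : Smooth f := hf.1
  have hir : GeometricallyIrreducible f := hf.2.2.1
  have hgc : GeometricallyConnected f := K995.CurveBasic.geometricallyConnected f
  have hdim := dim_fiber hf
  have i1 := hJ.smooth
  have i2 := hJ.proper
  have i3 := hJ.geomConnected
  have hgi := K814.AbBasic.geometricallyIntegral J
  obtain ⟨At, GAt, cAt, φ, ζ, hAt, hD, z1, z2, z3, hmon, hfin, hfl, hlfp, hsur⟩ :=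
    K814.DualNode.exists_dual hJ hL hrel
  have hbase := abel_base hdim h hα
  obtain ⟨fd, hfd, -⟩ := h.univ At (pull (ba α At) ζ) (pull_ba_mem z2 hbase)
    (deg_of_mem_pz hdim (pull_bcMap_mem α z1))
  change pull (PicF.XTmap f fd) ξ = pull (ba α At) ζ at hfd
  have e1 : K814.MumHom.hom φ (mk L hL) ≫ fd = (𝟙 J)⁻¹ := by
    apply jac_ext hdim h
    rw [pull_inv h, XTmap_id, pull_id, XTmap_comp, pull_comp, hfd, ← pull_comp, XTmap_ba, pull_comp, ← hm, hom]
    exact congrArg (pull (AbDual.bcMap α J)) (eq_pull_poinc hD (bijective_XTproj J.hom) z1 z2 z3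
      (mum_pz (mk L hL)) (mum_mem_rg h1)).symm
  have e2 : K814.MumHom.hom φ (mk L hL) ≫ fd ≫ (𝟙 J)⁻¹ = 𝟙 J := by
    rw [← Category.assoc, e1, GrpObj.comp_inv, Category.comp_id, inv_inv]
  have hmono : Mono (K814.MumHom.hom φ (mk L hL)) := mono_of_mono_fac e2
  have hmono' : Mono (K814.MumHom.hom φ (mk L hL)).left :=
    inferInstanceAs (Mono ((Over.forget S).map (K814.MumHom.hom φ (mk L hL))))
  have hiso : IsIso (K814.MumHom.hom φ (mk L hL)).left := Flat.isIso_of_surjective_of_mono _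
  have hiso' : IsIso (K814.MumHom.hom φ (mk L hL)) := by
    have : IsIso ((Over.forget S).map (K814.MumHom.hom φ (mk L hL))) := hiso
    exact isIso_of_reflects_iso _ (Over.forget S)
  refine ⟨At, GAt, cAt, φ, hAt, hD, hiso', ?_, ⟨hfin, hfl, hlfp, fun y => ?_⟩⟩
  · exact K438.LambdaBC.isPolarization hD hL hrel ((isLambda_iff φ hL _).2 rfl) hmon
  · rw [Scheme.Hom.isIso_iff_finrank_eq] at hiso
    rw [hiso, one_pow]
    rfl

end K438.JacPol
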