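import Groth.Agent.AgPol.K438.JacPol
import Groth.Agent.AgPol.K610.JacMain
import Groth.Agent.AgPol.K245.MumMain

/-!
# The node on Jacobian families, discharged
-/

set_option autoImplicit false
universe u

namespace K438.NodeAFin

theorem pol : K610.JacFam.Pol.{u} := by
  intro S C _ f g _ hf _ _ σ hσ J _ _ ξ hJ h α hα L hL hrel h1 hm
  exact K438.JacPol.main hf hJ h hα L hL hrel h1 hm

/-- Existence of the Jacobian family over a Noetherian base. -/
theorem nodeA0 : K610.Mg.NodeA0.{u} := K610.JacFam.main' pol K245.MumMain.main

end K438.NodeAFin
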